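import Mathlib
import Cfsg.Prelude
import Cfsg.Agent.S1692

set_option autoImplicit false

/-!
The action of the presented O'Nan group on the 122760 cosets of the subgroup generated by
`a, …, f`, from the certified coset table; it is transitive, and faithful when the presented group
is simple.
-/

namespace Cfsg.Agent.Helper9.ON

open Cfsg Cfsg.Spor Cfsg.Agent.Helper5.TC Cfsg.Agent.Helper5.TCI Cfsg.Agent.Helper5.ONTC
open Cfsg.Agent.S1692 MulAction

/-- the number of points. -/
abbrev nP : ℕ := 122760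

/-- the letters as permutations. -/
noncomputable def sg (x : ℕ) : Equiv.Perm (Fin nP) := tblPermI ctF iota nP x

theorem tbl_ok {x : ℕ} (hx : x < 8) :
    (∀ v, v < nP → ctF x v < nP ∧ ctF (iota x) (ctF x v) = v) ∧
      (∀ v, v < nP → ctF (iota x) v < nP ∧ ctF x (ctF (iota x) v) = v) :=
  tbl_both iota_iota iota_lt8 hT hx

theorem sg_eq (x : ℕ) : sg x = tblPermI ctF iota nP x := rfl

theorem tbl_apply {x : ℕ} (v : Fin nP)
    (h : (∀ v, v < nP → ctF x v < nP ∧ ctF (iota x) (ctF x v) = v) ∧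
      (∀ v, v < nP → ctF (iota x) v < nP ∧ ctF x (ctF (iota x) v) = v)) :
    ((tblPermI ctF iota nP x) v).val = ctF x v.val :=
  @tblPermI_apply ctF iota nP x h v

theorem sg_apply {x : ℕ} (hx : x < 8) (v : Fin nP) : (sg x v).val = ctF x v.val := by
  rw [sg_eq]
  exact tbl_apply v (tbl_ok hx)

theorem sg_mul (x : ℕ) : sg x * sg (iota x) = 1 := tblPermI_mul ctF iota iota_iota nP x

theorem sg_inv (x : ℕ) : (sg x)⁻¹ = sg (iota x) := inv_eq_of_mul_eq_one_right (sg_mul x)

theorem sg_rel (wi : ℕ) (hwi : wi < E.D.nrel) :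
    rprod sg (unpack (E.D.wlen wi) (E.D.wordP wi)) = 1 := by
  have hnw : wi < E.D.nw := lt_of_lt_of_le hwi (by decide)
  ext v
  have h := walkT_specI iota_iota iota_lt8 hT _ _ (hltr wi hnw) v
  change ((rprod sg (unpack (E.D.wlen wi) (E.D.wordP wi))) v).val = _ at h
  rw [h, hrelT wi hwi v.val v.isLt]
  rfl

attribute [irreducible] sg

theorem sg_rels : ∀ r ∈ rels, FreeGroup.lift (fun z => sg (enc z)) r = 1 := by
  intro r hr
  obtain ⟨wi, hwi, hm⟩ := relC r hr
  rw [hm _ sg sg_mul]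
  exact sg_rel wi hwi

/-- the action on the cosets. -/
noncomputable def phi : ON →* Equiv.Perm (Fin nP) := PresentedGroup.toGroup sg_rels

theorem phi_of (z : ON.Gen) : phi (PresentedGroup.of z) = sg (enc z) :=
  PresentedGroup.toGroup.of sg_rels

theorem phi_mk (x : FreeGroup ON.Gen) :
    phi (PresentedGroup.mk rels x) = FreeGroup.lift (fun z => sg (enc z)) x := rfl

/-- the image of the presented group. -/
noncomputable def ONP : Subgroup (Equiv.Perm (Fin nP)) := phi.range

theorem sg_mem {x : ℕ} (hx : x < 8) : sg x ∈ ONP := by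
  have h7 : sg 7 = (sg 6)⁻¹ := (sg_inv 6).symm
  interval_cases x
  · exact ⟨PresentedGroup.of ON.Gen.a, phi_of _⟩
  · exact ⟨PresentedGroup.of ON.Gen.b, phi_of _⟩
  · exact ⟨PresentedGroup.of ON.Gen.c, phi_of _⟩
  · exact ⟨PresentedGroup.of ON.Gen.d, phi_of _⟩
  · exact ⟨PresentedGroup.of ON.Gen.e, phi_of _⟩
  · exact ⟨PresentedGroup.of ON.Gen.f, phi_of _⟩
  · exact ⟨PresentedGroup.of ON.Gen.g, phi_of _⟩
  · rw [h7]
    exact ONP.inv_mem ⟨PresentedGroup.of ON.Gen.g, phi_of _⟩

theorem exists_mem_ONP (v : ℕ) (hv : v < nP) : ∃ g ∈ ONP, g (0 : Fin nP) = ⟨v, hv⟩ := by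
  induction v using Nat.strong_induction_on with
  | _ v ih =>
    rcases Nat.eq_zero_or_pos v with rfl | hpos
    · exact ⟨1, ONP.one_mem, rfl⟩
    · obtain ⟨x, hx, hlt⟩ := hconn v hv (by omega)
      have hx8 : x < 8 := hx
      have hw : ctF x v < nP := lt_trans hlt hv
      obtain ⟨g, hg, hg0⟩ := ih (ctF x v) hlt hw
      refine ⟨sg (iota x) * g, ONP.mul_mem (sg_mem (iota_lt8 x hx)) hg, ?_⟩
      rw [Equiv.Perm.mul_apply, hg0]
      apply Fin.ext
      rw [sg_apply (iota_lt8 x hx)]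
      exact ((tbl_ok hx8).1 v hv).2

instance pretransitive : IsPretransitive ↥ONP (Fin nP) := by
  constructor
  intro x y
  obtain ⟨g, hg, hg0⟩ := exists_mem_ONP x.val x.isLt
  obtain ⟨g', hg', hg0'⟩ := exists_mem_ONP y.val y.isLt
  refine ⟨⟨g' * g⁻¹, ONP.mul_mem hg' (ONP.inv_mem hg)⟩, ?_⟩
  change (g' * g⁻¹) x = y
  rw [Equiv.Perm.mul_apply]
  have : g⁻¹ x = 0 := by
    rw [Equiv.Perm.inv_eq_iff_eq]
    exact hg0.symm
  rw [this]
  exact hg0'

theorem sg_one_ne : sg 1 ≠ 1 := by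
  intro h
  have h1 := sg_apply (x := 1) (by norm_num) ⟨1, by norm_num⟩
  rw [h] at h1
  revert h1
  decide +kernel

theorem phi_injective (hs : IsSimpleGroup ON) : Function.Injective phi := by
  rw [← MonoidHom.ker_eq_bot_iff]
  rcases hs.eq_bot_or_eq_top_of_normal phi.ker inferInstance with h | h
  · exact h
  · exfalso
    have : PresentedGroup.of ON.Gen.b ∈ phi.ker := by
      rw [h]
      trivial
    rw [MonoidHom.mem_ker, phi_of] at this
    exact sg_one_ne this

theorem card_ONP (h : IsON ON) : Nat.card ↥ONP = 460815505920 := by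
  rw [← h.2]
  exact (Nat.card_congr (MonoidHom.ofInjective (phi_injective h.1)).toEquiv).symm

theorem card_stab (h : IsON ON) : Nat.card (stabilizer ↥ONP (0 : Fin nP)) = 3753792 := by
  have h1 : (stabilizer ↥ONP (0 : Fin nP)).index = (orbit ↥ONP (0 : Fin nP)).ncard :=
    index_stabilizer ↥ONP (0 : Fin nP)
  have h2 : orbit ↥ONP (0 : Fin nP) = Set.univ := orbit_eq_univ ↥ONP (0 : Fin nP)
  rw [h2, Set.ncard_univ, Nat.card_eq_fintype_card, Fintype.card_fin] at h1
  have h3 := Subgroup.index_mul_card (stabilizer ↥ONP (0 : Fin nP))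
  rw [h1, card_ONP h] at h3
  have h4 : 122760 * Nat.card (stabilizer ↥ONP (0 : Fin nP)) = 460815505920 := h3
  omega

end Cfsg.Agent.Helper9.ON
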