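import Mathlib

set_option autoImplicit false

/-!
The projective plane over the field with seven elements: the numbering of its 57 points.
-/

namespace Cfsg.Agent.Helper9.ON

open scoped LinearAlgebra.Projectivization

/-- the field with seven elements. -/
abbrev K7 : Type := ZMod 7

instance fact7 : Fact (Nat.Prime 7) := ⟨by norm_num⟩

/-- vectors of length three. -/
abbrev V7 : Type := Fin 3 → K7

/-- inverses modulo seven. -/
def iv (a : ℕ) : ℕ := [0, 1, 4, 5, 2, 3, 6].getD a 0

/-- the number of the point with given coordinates. -/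
def pnN (a b c : ℕ) : ℕ :=
  if a ≠ 0 then 8 + 7 * ((iv a * b) % 7) + (iv a * c) % 7
  else if b ≠ 0 then 1 + (iv b * c) % 7 else 0

/-- the number of the point of a vector given by its coordinates. -/
def pn3 (x y z : K7) : ℕ := pnN x.val y.val z.val

/-- the number of the point of a vector. -/
def pnum (v : V7) : ℕ := pn3 (v 0) (v 1) (v 2)

theorem pn3_lt : ∀ x y z : K7, pn3 x y z < 57 := by decide +kernel

theorem pnum_lt (v : V7) : pnum v < 57 := pn3_lt _ _ _

theorem pn3_smul : ∀ x y z t : K7, t ≠ 0 → pn3 (t * x) (t * y) (t * z) = pn3 x y z := by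
  decide +kernel

theorem pnum_smul (v : V7) (t : K7) (ht : t ≠ 0) : pnum (t • v) = pnum v :=
  pn3_smul _ _ _ t ht

/-- a vector for each point. -/
def repN (n : ℕ) : ℕ × ℕ × ℕ :=
  if n = 0 then (0, 0, 1) else if n < 8 then (0, 1, n - 1) else (1, (n - 8) / 7, (n - 8) % 7)

/-- the vector of a point. -/
def repV (n : ℕ) : V7 := ![((repN n).1 : K7), ((repN n).2.1 : K7), ((repN n).2.2 : K7)]

theorem rep_spec : ∀ x y z : K7, (x ≠ 0 ∨ y ≠ 0 ∨ z ≠ 0) →
    ∃ a : K7, a * repV (pn3 x y z) 0 = x ∧ a * repV (pn3 x y z) 1 = y ∧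
      a * repV (pn3 x y z) 2 = z := by decide +kernel

theorem rep_surj : ∀ n : Fin 57, repV n.val ≠ 0 ∧ pnum (repV n.val) = n.val := by
  decide +kernel

theorem coords_ne_zero {v : V7} (hv : v ≠ 0) : v 0 ≠ 0 ∨ v 1 ≠ 0 ∨ v 2 ≠ 0 := by
  by_contra hcon
  rw [not_or, not_or, not_not, not_not, not_not] at hcon
  apply hv
  ext i
  fin_cases i
  · exact hcon.1
  · exact hcon.2.1
  · exact hcon.2.2

theorem repV_spec {v : V7} (hv : v ≠ 0) : ∃ a : K7, a • repV (pnum v) = v := by
  obtain ⟨a, h0, h1, h2⟩ := rep_spec (v 0) (v 1) (v 2) (coords_ne_zero hv)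
  refine ⟨a, ?_⟩
  ext i
  fin_cases i
  · exact h0
  · exact h1
  · exact h2

/-- the number of a point of the projective plane. -/
noncomputable def beta : ℙ K7 V7 → ℕ :=
  Projectivization.lift (fun v : {v : V7 // v ≠ 0} => pnum v.1) (by
    rintro ⟨a, ha⟩ ⟨b, hb⟩ t h
    change a = t • b at h
    change pnum a = pnum b
    subst h
    have ht : t ≠ 0 := by
      rintro rfl
      rw [zero_smul] at ha
      exact ha rfl
    exact pnum_smul b t ht)

theorem beta_mk (v : V7) (hv : v ≠ 0) : beta (Projectivization.mk K7 v hv) = pnum v := rfl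

theorem beta_lt (X : ℙ K7 V7) : beta X < 57 := by
  induction X using Projectivization.ind with | _ v hv =>
  rw [beta_mk]
  exact pnum_lt v

theorem beta_injective : Function.Injective beta := by
  intro x y h
  induction x using Projectivization.ind with | _ v hv =>
  induction y using Projectivization.ind with | _ w hw =>
  rw [beta_mk, beta_mk] at h
  obtain ⟨a, ha⟩ := repV_spec hv
  obtain ⟨b, hb⟩ := repV_spec hw
  rw [h] at ha
  have hb0 : b ≠ 0 := by
    rintro rfl
    rw [zero_smul] at hb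
    exact hw hb.symm
  rw [Projectivization.mk_eq_mk_iff']
  refine ⟨a * b⁻¹, ?_⟩
  rw [← hb, ← ha, smul_smul, mul_assoc, inv_mul_cancel₀ hb0, mul_one]

theorem beta_surj {n : ℕ} (hn : n < 57) : ∃ X : ℙ K7 V7, beta X = n := by
  obtain ⟨h1, h2⟩ := rep_surj ⟨n, hn⟩
  exact ⟨Projectivization.mk K7 (repV n) h1, h2⟩

end Cfsg.Agent.Helper9.ON
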