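import Mathlib
import Cfsg.Agent.Helper9.J3.Fast
import Cfsg.Agent.Helper9.ON.Plane
import Cfsg.Agent.Helper7.LinearCard
import Cfsg.Agent.Helper7.Transvections

set_option autoImplicit false

/-!
Five matrices that generate the special linear group of degree three over the field with seven
elements, and the permutations of the 57 points that they induce.
-/

namespace Cfsg.Agent.Helper9.ON

open scoped LinearAlgebra.Projectivization
open Cfsg.Agent.Helper9.J3 Matrix

abbrev SL7 : Type := Matrix.SpecialLinearGroup (Fin 3) K7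
abbrev PSL7 : Type := Matrix.ProjectiveSpecialLinearGroup (Fin 3) K7

/-- the entries of the five matrices and of their inverses. -/
def gL : List (List (List ℕ)) := [[[1, 2, 4], [0, 3, 2], [0, 4, 3]], [[1, 5, 6], [4, 2, 5], [6, 1, 3]], [[1, 3, 6], [6, 1, 3], [3, 6, 1]], [[3, 1, 4], [0, 5, 1], [0, 5, 2]], [[3, 2, 4], [4, 1, 6], [2, 5, 1]], [[1, 3, 6], [0, 3, 5], [0, 3, 3]], [[1, 5, 6], [4, 2, 5], [6, 1, 3]], [[4, 5, 3], [3, 4, 5], [5, 3, 4]], [[5, 4, 2], [0, 6, 4], [0, 6, 1]], [[6, 4, 1], [1, 2, 5], [4, 3, 2]]]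

/-- the permutations of the 57 points given by the five matrices. -/
def gPis : List (List ℕ) := [[42, 45, 22, 9, 4, 19, 55, 32, 8, 52, 25, 20, 47, 6, 30, 21, 1, 14, 28, 49, 35, 56, 39, 38, 36, 37, 0, 40, 41, 7, 17, 54, 29, 48, 23, 11, 51, 10, 34, 2, 43, 18, 26, 27, 31, 16, 12, 46, 50, 5, 33, 24, 3, 53, 44, 13, 15], [26, 53, 9, 36, 48, 21, 6, 31, 42, 2, 10, 18, 51, 43, 34, 15, 45, 41, 11, 56, 30, 5, 24, 28, 22, 25, 0, 27, 23, 44, 20, 7, 32, 50, 14, 38, 3, 37, 35, 46, 55, 17, 8, 13, 29, 16, 39, 52, 4, 49, 33, 12, 47, 1, 54, 40, 19], [42, 45, 22, 9, 4, 19, 55, 32, 53, 3, 24, 33, 15, 13, 44, 12, 16, 31, 27, 5, 50, 46, 2, 34, 10, 51, 26, 18, 43, 29, 54, 17, 7, 11, 23, 48, 37, 36, 38, 39, 41, 40, 0, 28, 14, 1, 21, 56, 35, 49, 20, 25, 52, 8, 30, 6, 47], [26, 48, 36, 9, 53, 31, 6, 21, 8, 3, 37, 35, 46, 55, 17, 32, 50, 14, 38, 44, 20, 7, 24, 28, 22, 25, 0, 27, 23, 56, 30, 5, 15, 45, 41, 11, 2, 10, 18, 51, 43, 34, 42, 40, 19, 33, 12, 47, 1,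 54, 16, 39, 52, 4, 49, 13, 29], [45, 42, 9, 22, 4, 19, 32, 55, 53, 2, 37, 20, 12, 29, 28, 15, 26, 41, 30, 5, 11, 56, 3, 34, 36, 25, 16, 54, 14, 13, 18, 40, 6, 50, 23, 35, 24, 10, 38, 52, 31, 17, 1, 44, 43, 0, 47, 46, 48, 49, 33, 51, 39, 8, 27, 7, 21]]

/-- words in the ten matrices for the elementary transvections. -/
def trW : List (List (List ℕ)) := [[[], [2, 3, 2, 1, 0, 2, 1, 2, 3, 2, 1, 0, 2, 1, 4, 8, 7], [1, 2, 1, 0, 3, 2, 1, 0, 2, 1, 3, 0, 2, 1, 2, 0, 3, 6, 7, 5, 6, 7, 6, 5]], [[3, 2, 1, 2, 0, 1, 0, 2, 3, 2, 1, 0, 2, 8], [], [1, 2, 0, 1, 0, 2, 1, 0, 3, 2, 1, 0, 2, 1, 4, 3, 7, 6, 7, 8, 5, 9, 6, 7]], [[2, 4, 3, 2, 1, 2, 0, 1, 2, 0, 3, 2, 1, 0, 2, 1, 3, 5, 7, 6, 7, 8, 5, 9], [1, 2, 0, 1, 3, 2, 1, 2, 0, 1, 2, 3, 2, 1, 2, 9, 3, 5, 6, 7, 5, 6, 5], []]]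

/-- an entry of one of the ten matrices. -/
def gE (i r c : ℕ) : ℕ := ((gL.getD i []).getD r []).getD c 0

/-- the matrix given by a number. -/
def mOf (i : ℕ) : Matrix (Fin 3) (Fin 3) K7 := fun r c => (gE i r.val c.val : K7)

theorem det_mOf : ∀ i : Fin 10, (mOf i.val).det = 1 := by
  intro i
  rw [Matrix.det_fin_three]
  revert i
  decide +kernel

/-- the ten matrices, and the identity for the other numbers. -/
def mOf' (i : ℕ) : Matrix (Fin 3) (Fin 3) K7 := if i < 10 then mOf i else 1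

theorem det_mOf' (i : ℕ) : (mOf' i).det = 1 := by
  unfold mOf'
  split_ifs with h
  · exact det_mOf ⟨i, h⟩
  · exact Matrix.det_one

/-- the ten matrices. -/
def gSL (i : ℕ) : SL7 := ⟨mOf' i, det_mOf' i⟩

theorem gSL_coe {i : ℕ} (h : i < 10) : (gSL i : Matrix (Fin 3) (Fin 3) K7) = mOf i := by
  change mOf' i = mOf i
  unfold mOf'
  rw [if_pos h]

theorem mOf_mul_inv : ∀ i : Fin 5, mOf i.val * mOf (i.val + 5) = 1 := by decide +kernel

theorem gSL_inv (i : Fin 5) : gSL (i.val + 5) = (gSL i.val)⁻¹ := by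
  symm
  apply inv_eq_of_mul_eq_one_right
  apply Subtype.ext
  rw [Matrix.SpecialLinearGroup.coe_mul, gSL_coe (by omega), gSL_coe (by omega)]
  exact mOf_mul_inv i

/-- the group generated by the five matrices. -/
def C5 : Subgroup SL7 := Subgroup.closure (Set.range fun i : Fin 5 => gSL i.val)

theorem gSL_mem (i : ℕ) : gSL i ∈ C5 := by
  by_cases h : i < 10
  · by_cases h5 : i < 5
    · exact Subgroup.subset_closure ⟨⟨i, h5⟩, rfl⟩
    · have e : i = (⟨i - 5, by omega⟩ : Fin 5).val + 5 := by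
        change i = i - 5 + 5
        omega
      rw [e, gSL_inv]
      exact C5.inv_mem (Subgroup.subset_closure ⟨_, rfl⟩)
  · have : gSL i = 1 := by
      apply Subtype.ext
      change mOf' i = 1
      unfold mOf'
      rw [if_neg h]
    rw [this]
    exact C5.one_mem

/-- the product of a word. -/
def wSL (w : List ℕ) : SL7 := (w.map gSL).prod

theorem wSL_mem (w : List ℕ) : wSL w ∈ C5 := by
  apply Subgroup.list_prod_mem
  intro x hx
  obtain ⟨i, -, rfl⟩ := List.mem_map.1 hx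
  exact gSL_mem i

/-- the vector with a given code. -/
def vecC (k : ℕ) : V7 := ![(k : K7), ((k / 7 : ℕ) : K7), ((k / 49 : ℕ) : K7)]

/-- the action of one of the ten matrices on the codes of the vectors. -/
def actC (i k : ℕ) : ℕ :=
  (gE i 0 0 * (k % 7) + gE i 0 1 * (k / 7 % 7) + gE i 0 2 * (k / 49)) % 7 +
    7 * ((gE i 1 0 * (k % 7) + gE i 1 1 * (k / 7 % 7) + gE i 1 2 * (k / 49)) % 7) +
    49 * ((gE i 2 0 * (k % 7) + gE i 2 1 * (k / 7 % 7) + gE i 2 2 * (k / 49)) % 7)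

theorem actC_spec : ∀ i : Fin 10, ∀ k : Fin 343,
    actC i.val k.val < 343 ∧ vecC (actC i.val k.val) = mOf i.val *ᵥ vecC k.val := by
  decide +kernel

/-- the action of a word on the codes of the vectors. -/
def wAct : List ℕ → ℕ → ℕ
  | [], k => k
  | i :: w, k => sapp (actC i) (wAct w k)

theorem wAct_spec : ∀ (w : List ℕ), (∀ i ∈ w, i < 10) → ∀ k : ℕ, k < 343 →
    wAct w k < 343 ∧ vecC (wAct w k) = (wSL w : Matrix (Fin 3) (Fin 3) K7) *ᵥ vecC k
  | [], _, k, hk => by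
    refine ⟨hk, ?_⟩
    change vecC k = (1 : Matrix (Fin 3) (Fin 3) K7) *ᵥ vecC k
    rw [Matrix.one_mulVec]
  | i :: w, h, k, hk => by
    have hi : i < 10 := h i List.mem_cons_self
    have hw : ∀ j ∈ w, j < 10 := fun j hj => h j (List.mem_cons_of_mem _ hj)
    obtain ⟨h1, h2⟩ := wAct_spec w hw k hk
    have e : wSL (i :: w) = gSL i * wSL w := by
      unfold wSL
      rw [List.map_cons, List.prod_cons]
    obtain ⟨h3, h4⟩ := actC_spec ⟨i, hi⟩ ⟨wAct w k, h1⟩
    change wAct (i :: w) k < 343 ∧ _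
    have e2 : wAct (i :: w) k = actC i (wAct w k) := sapp_eq _ _
    rw [e2, e, Matrix.SpecialLinearGroup.coe_mul, ← Matrix.mulVec_mulVec, ← h2, gSL_coe hi]
    exact ⟨h3, h4⟩

theorem sl_ext {A B : SL7} (h : ∀ c : Fin 3, (A : Matrix (Fin 3) (Fin 3) K7) *ᵥ Pi.single c 1 =
    (B : Matrix (Fin 3) (Fin 3) K7) *ᵥ Pi.single c 1) : A = B := by
  apply Subtype.ext
  ext i j
  have := congrFun (h j) i
  rw [mulVec_single_one, mulVec_single_one] at this
  exact this

theorem vecC_basis : ∀ c : Fin 3, vecC (7 ^ c.val) = Pi.single c 1 := by decide +kernel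

theorem trW_ok : ∀ i j : Fin 3, i ≠ j →
    (((trW.getD i.val []).getD j.val []).all fun l => decide (l < 10)) = true ∧
      ∀ c : Fin 3, vecC (wAct ((trW.getD i.val []).getD j.val []) (7 ^ c.val)) =
        Matrix.transvection i j (1 : K7) *ᵥ Pi.single c 1 := by
  decide +kernel

theorem transvection_one_mem {i j : Fin 3} (hij : i ≠ j) :
    Matrix.SpecialLinearGroup.transvection hij (1 : K7) ∈ C5 := by
  obtain ⟨h1, h2⟩ := trW_ok i j hij
  have hw : ∀ l ∈ (trW.getD i.val []).getD j.val [], l < 10 :=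
    fun l hl => of_decide_eq_true (List.all_eq_true.1 h1 l hl)
  have : Matrix.SpecialLinearGroup.transvection hij (1 : K7) =
      wSL ((trW.getD i.val []).getD j.val []) := by
    apply sl_ext
    intro c
    have hc : 7 ^ c.val < 343 := by
      have : c.val < 3 := c.isLt
      interval_cases c.val <;> norm_num
    obtain ⟨-, h3⟩ := wAct_spec _ hw (7 ^ c.val) hc
    rw [← vecC_basis c, ← h3, h2 c, vecC_basis c]
    rfl
  rw [this]
  exact wSL_mem _

theorem transvection_nat_mem {i j : Fin 3} (hij : i ≠ j) (n : ℕ) :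
    Matrix.SpecialLinearGroup.transvection hij (n : K7) ∈ C5 := by
  induction n with
  | zero =>
    rw [Nat.cast_zero, Matrix.SpecialLinearGroup.transvection_coeff_zero]
    exact C5.one_mem
  | succ n ih =>
    rw [Nat.cast_succ, Matrix.SpecialLinearGroup.transvection_add]
    exact C5.mul_mem ih (transvection_one_mem hij)

/-- the five matrices generate the special linear group. -/
theorem C5_eq_top : C5 = ⊤ := by
  rw [eq_top_iff]
  intro M _
  refine Cfsg.Agent.Helper7.Transv.transvection_induction (fun M => M ∈ C5) ?_ ?_ M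
  · intro i j hij a
    have := transvection_nat_mem hij a.val
    rwa [ZMod.natCast_zmod_val] at this
  · intro A B hA hB
    exact C5.mul_mem hA hB

/-- the projective special linear group of degree three over the field with seven elements has
1876896 elements. -/
theorem card_PSL7 : Nat.card PSL7 = 1876896 := by
  have h1 := Cfsg.Agent.Helper7.card_center_mul_card_PSL (F := K7) 3 (by norm_num)
  have h2 := Cfsg.Agent.Helper7.card_units_mul_card_SL (n := Fin 3) (F := K7)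
  have h3 := Matrix.card_GL_field (n := 3) (𝔽 := K7)
  rw [Fin.prod_univ_three] at h3
  have e0 : ((0 : Fin 3) : ℕ) = 0 := rfl
  have e1' : ((1 : Fin 3) : ℕ) = 1 := rfl
  have e2' : ((2 : Fin 3) : ℕ) = 2 := rfl
  rw [e0, e1', e2'] at h3
  have hc : Fintype.card K7 = 7 := ZMod.card 7
  have hc' : Nat.card K7 = 7 := by rw [Nat.card_eq_fintype_card, hc]
  simp only [hc] at h1 h2 h3
  rw [h3] at h2
  have e1 : Nat.gcd 3 (7 - 1) = 3 := by decide
  rw [e1] at h1
  change 3 * Nat.card PSL7 = Nat.card SL7 at h1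
  change (7 - 1) * Nat.card SL7 = _ at h2
  generalize Nat.card SL7 = x at h1 h2
  generalize Nat.card PSL7 = y at h1 ⊢
  norm_num at h2
  omega

end Cfsg.Agent.Helper9.ON
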