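import Mathlib
import Cfsg.Agent.Helper9.J3.Fast
import Cfsg.Agent.Helper9.ON.LabData
import Cfsg.Agent.Helper9.ON.Mats
import Cfsg.Agent.Helper5.ONTCDatT

set_option autoImplicit false

/-!
The products `a b, a c, a d, a e, a f` of the letters permute the labels of the points in the same
way as five matrices permute the points of the projective plane: the checks that the kernel makes.
-/

namespace Cfsg.Agent.Helper9.ON

open Cfsg.Agent.Helper9.J3 Cfsg.Agent.Helper5.ONTC

/-- the label of a point. -/
def labF (v : ℕ) : ℕ :=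
  sapp (fun c => Nat.land (Nat.shiftRight (labSel c) (Nat.mul 6 (Nat.land v 1023))) 63)
    (Nat.shiftRight v 10)

/-- the packed permutation of the 57 points given by a matrix. -/
def piSel (i : ℕ) : ℕ := piT.getD i 0

/-- the permutation of the 57 points given by a matrix. -/
def piF (i a : ℕ) : ℕ := Nat.land (Nat.shiftRight (piSel i) (Nat.mul 6 a)) 63

theorem piF_eq : ∀ i : Fin 5, ∀ a : Fin 57, piF i.val a.val = (gPis.getD i.val []).getD a.val 0 := by
  decide +kernel

theorem piF_inj : ∀ i : Fin 5, ∀ a b : Fin 57, piF i.val a.val = piF i.val b.val → a = b := by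
  decide +kernel

/-- the check at a point. -/
def chkAt (i v : ℕ) : Bool :=
  Bool.rec
    (sapp (fun a => sapp (fun b =>
        Bool.rec (andB (Nat.ble a 56) (Nat.beq b (piF i a))) (Nat.beq b 63) (Nat.beq a 63))
      (labF (ctF 0 (ctF (Nat.succ i) v)))) (labF v))
    true (Nat.ble 122760 v)

theorem chkAt_spec {i v : ℕ} (h : chkAt i v = true) (hv : v < 122760) :
    (labF v = 63 ∧ labF (ctF 0 (ctF (i + 1) v)) = 63) ∨
      (labF v ≤ 56 ∧ labF (ctF 0 (ctF (i + 1) v)) = piF i (labF v)) := by
  unfold chkAt at h
  have hb : Nat.ble 122760 v = false := by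
    cases hc : Nat.ble 122760 v with
    | false => rfl
    | true => have := Nat.le_of_ble_eq_true hc; omega
  rw [hb, sapp_eq, sapp_eq] at h
  change (Bool.rec (andB (Nat.ble (labF v) 56)
    (Nat.beq (labF (ctF 0 (ctF (i + 1) v))) (piF i (labF v))))
    (Nat.beq (labF (ctF 0 (ctF (i + 1) v))) 63) (Nat.beq (labF v) 63) : Bool) = true at h
  cases hc : Nat.beq (labF v) 63 with
  | true =>
    rw [hc] at h
    exact Or.inl ⟨Nat.eq_of_beq_eq_true hc, Nat.eq_of_beq_eq_true h⟩
  | false =>
    rw [hc] at h
    obtain ⟨h1, h2⟩ := andB_true h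
    exact Or.inr ⟨Nat.le_of_ble_eq_true h1, Nat.eq_of_beq_eq_true h2⟩

set_option maxRecDepth 1000000 in
theorem compat_b0 : allB (fun k => allC (chkAt 0) k 4096) 30 = true := by decide +kernel

set_option maxRecDepth 1000000 in
theorem compat_b1 : allB (fun k => allC (chkAt 1) k 4096) 30 = true := by decide +kernel

set_option maxRecDepth 1000000 in
theorem compat_b2 : allB (fun k => allC (chkAt 2) k 4096) 30 = true := by decide +kernel

set_option maxRecDepth 1000000 in
theorem compat_b3 : allB (fun k => allC (chkAt 3) k 4096) 30 = true := by decide +kernel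

set_option maxRecDepth 1000000 in
theorem compat_b4 : allB (fun k => allC (chkAt 4) k 4096) 30 = true := by decide +kernel

theorem compat_spec {i v : ℕ} (hi : i < 5) (hv : v < 122760) :
    (labF v = 63 ∧ labF (ctF 0 (ctF (i + 1) v)) = 63) ∨
      (labF v ≤ 56 ∧ labF (ctF 0 (ctF (i + 1) v)) = piF i (labF v)) := by
  have hv' : v < 30 * 4096 := by omega
  apply chkAt_spec _ hv
  interval_cases i
  · exact allC_true (fun k hk => allB_true compat_b0 hk) hv'
  · exact allC_true (fun k hk => allB_true compat_b1 hk) hv'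
  · exact allC_true (fun k hk => allB_true compat_b2 hk) hv'
  · exact allC_true (fun k hk => allB_true compat_b3 hk) hv'
  · exact allC_true (fun k hk => allB_true compat_b4 hk) hv'

/-- a point with a given label. -/
def flagF (j : ℕ) : ℕ := lkF 17 131071 flagT j

theorem flag_spec : ∀ j : Fin 57, flagF j.val < 122760 ∧ labF (flagF j.val) = j.val := by
  decide +kernel

theorem wit_spec : labF 172 = 0 ∧ labF 380 = 0 ∧ labF (ctF 0 172) = 45 ∧ labF (ctF 0 380) = 35 := by
  decide +kernel

theorem fix_zero : ∀ i : Fin 6, ctF i.val 0 = 0 := by decide +kernel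

end Cfsg.Agent.Helper9.ON
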