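import Mathlib
import Cfsg.Prelude
import Cfsg.Agent.Helper9.ON.Hom
import Cfsg.Agent.Helper9.ON.Lab

set_option autoImplicit false

/-!
In the group on the 122760 points, the products of two of the letters `a, …, f` generate a
subgroup that maps onto the projective special linear group of degree three over the field with
seven elements, and that has index at most two in the subgroup generated by `a, …, f`.
-/

namespace Cfsg.Agent.Helper9.ON

open Cfsg Cfsg.Spor Cfsg.Agent.Helper5.TC Cfsg.Agent.Helper5.TCI Cfsg.Agent.Helper5.ONTC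
open Cfsg.Agent.S1692 MulAction Cfsg.Agent.Helper9.J3 Matrix
open scoped LinearAlgebra.Projectivization

theorem smul_apply3 (M : SL7) (v : V7) (i : Fin 3) :
    (M • v) i = M.1 i 0 * v 0 + M.1 i 1 * v 1 + M.1 i 2 * v 2 := by
  rw [Matrix.SpecialLinearGroup.smul_def, Matrix.smul_eq_mulVec]
  simp [Matrix.mulVec, dotProduct, Fin.sum_univ_three]

theorem equiv_ok : ∀ i : Fin 5, ∀ x y z : K7, (x ≠ 0 ∨ y ≠ 0 ∨ z ≠ 0) →
    pn3 (mOf i.val 0 0 * x + mOf i.val 0 1 * y + mOf i.val 0 2 * z)
      (mOf i.val 1 0 * x + mOf i.val 1 1 * y + mOf i.val 1 2 * z)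
      (mOf i.val 2 0 * x + mOf i.val 2 1 * y + mOf i.val 2 2 * z) =
      (gPis.getD i.val []).getD (pn3 x y z) 0 := by
  decide +kernel

theorem beta_smul (i : Fin 5) (X : ℙ K7 V7) : beta (gSL i.val • X) = piF i.val (beta X) := by
  induction X using Projectivization.ind with | _ v hv =>
  rw [Projectivization.smul_mk, beta_mk, beta_mk]
  have h := equiv_ok i (v 0) (v 1) (v 2) (coords_ne_zero hv)
  have hlt : pnum v < 57 := pnum_lt v
  rw [piF_eq i ⟨pnum v, hlt⟩]
  unfold pnum
  rw [smul_apply3, smul_apply3, smul_apply3, gSL_coe (by omega)]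
  exact h

/-- the label of a point. -/
def lab (x : Fin nP) : ℕ := labF x.val

/-- a permutation and a class of matrices that permute the labels in the same way. -/
def Inv (h : Equiv.Perm (Fin nP)) (m : PSL7) : Prop :=
  ∀ (x : Fin nP) (X : ℙ K7 V7), lab x = beta X ↔ lab (h x) = beta (m • X)

/-- the pairs of a permutation and a class of matrices that permute the labels in the same way. -/
def RON : Subgroup (Equiv.Perm (Fin nP) × PSL7) where
  carrier := {p | Inv p.1 p.2}
  one_mem' := by
    intro x X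
    change lab x = beta X ↔ lab x = beta ((1 : PSL7) • X)
    rw [one_smul]
  mul_mem' := by
    rintro ⟨h, m⟩ ⟨h', m'⟩ hp hp' x X
    change lab x = beta X ↔ lab (h (h' x)) = beta ((m * m') • X)
    rw [mul_smul, hp' x X, hp (h' x) (m' • X)]
  inv_mem' := by
    rintro ⟨h, m⟩ hp x X
    change lab x = beta X ↔ lab (h⁻¹ x) = beta (m⁻¹ • X)
    have := hp (h⁻¹ x) (m⁻¹ • X)
    have e : h (h⁻¹ x) = x := by simp
    change lab (h⁻¹ x) = beta (m⁻¹ • X) ↔ lab (h (h⁻¹ x)) = beta (m • m⁻¹ • X) at this
    rw [smul_inv_smul, e] at this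
    exact this.symm

theorem mem_RON (h : Equiv.Perm (Fin nP)) (m : PSL7) : (h, m) ∈ RON ↔ Inv h m := Iff.rfl

/-- the products of `a` and another letter. -/
noncomputable def nG (i : ℕ) : Equiv.Perm (Fin nP) := sg 0 * sg (i + 1)

theorem nG_apply (i : Fin 5) (x : Fin nP) : (nG i.val x).val = ctF 0 (ctF (i.val + 1) x.val) := by
  unfold nG
  rw [Equiv.Perm.mul_apply, sg_apply (by norm_num), sg_apply (by omega)]

/-- the generators are in the relation. -/
theorem gen_mem_RON (i : Fin 5) : (nG i.val, ((gSL i.val : SL7) : PSL7)) ∈ RON := by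
  intro x X
  change labF x.val = beta X ↔ labF (nG i.val x).val = beta (((gSL i.val : SL7) : PSL7) • X)
  rw [Matrix.ProjectiveSpecialLinearGroup.smul_proj_mk, beta_smul, nG_apply]
  have hX : beta X < 57 := beta_lt X
  rcases compat_spec i.isLt x.isLt with ⟨h1, h2⟩ | ⟨h1, h2⟩
  · rw [h1, h2]
    constructor
    · intro h
      omega
    · intro h
      have : piF i.val (beta X) < 57 := by
        rw [← beta_smul]
        exact beta_lt _
      omega
  · rw [h2]
    constructor
    · intro h
      rw [h]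
    · intro h
      have hlt : labF x.val < 57 := by omega
      have := piF_inj i ⟨labF x.val, hlt⟩ ⟨beta X, hX⟩ h
      exact congrArg Fin.val this

/-- a class of matrices related to the identity permutation is the identity. -/
theorem RON_fst (m : PSL7) (h : ((1 : Equiv.Perm (Fin nP)), m) ∈ RON) : m = 1 := by
  apply eq_of_smul_eq_smul (α := ℙ K7 V7)
  intro X
  rw [one_smul]
  have hX : beta X < 57 := beta_lt X
  obtain ⟨h1, h2⟩ := flag_spec ⟨beta X, hX⟩
  have := (h ⟨flagF (beta X), h1⟩ X).1 h2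
  change labF (flagF (beta X)) = beta (m • X) at this
  rw [h2] at this
  exact (beta_injective this).symm

/-- the letter `a` is related to no class of matrices. -/
theorem sg0_not_rel (m : PSL7) : (sg 0, m) ∉ RON := by
  intro h
  obtain ⟨X, hX⟩ := beta_surj (n := 0) (by norm_num)
  obtain ⟨w1, w2, w3, w4⟩ := wit_spec
  let x1 : Fin nP := ⟨172, by norm_num⟩
  let x2 : Fin nP := ⟨380, by norm_num⟩
  have e1 : x1.val = 172 := rfl
  have e2 : x2.val = 380 := rfl
  have h' : Inv (sg 0) m := (mem_RON (sg 0) m).1 h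
  have q1 : lab x1 = beta X := by unfold lab; rw [e1, hX]; exact w1
  have q2 : lab x2 = beta X := by unfold lab; rw [e2, hX]; exact w2
  have h1 := (h' x1 X).1 q1
  have h2 := (h' x2 X).1 q2
  unfold lab at h1 h2
  rw [sg_apply (by norm_num), e1, w3] at h1
  rw [sg_apply (by norm_num), e2, w4] at h2
  omega

theorem sg_sq {x : ℕ} (hx : x < 6) : sg x * sg x = 1 := by
  have h := sg_mul x
  have e : iota x = x := by interval_cases x <;> rfl
  rwa [e] at h

theorem sg_inv_self {x : ℕ} (hx : x < 6) : (sg x)⁻¹ = sg x :=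
  inv_eq_of_mul_eq_one_right (sg_sq hx)

/-- the subgroup generated by `a, …, f`. -/
noncomputable def SP : Subgroup (Equiv.Perm (Fin nP)) :=
  Subgroup.closure (Set.range fun i : Fin 6 => sg i.val)

/-- the subgroup generated by the products of two of the letters `a, …, f`. -/
noncomputable def N2 : Subgroup (Equiv.Perm (Fin nP)) :=
  Subgroup.closure (Set.range fun i : Fin 5 => nG i.val)

theorem sg_mem_SP (i : Fin 6) : sg i.val ∈ SP := Subgroup.subset_closure ⟨i, rfl⟩

theorem nG_mem_N2 (i : Fin 5) : nG i.val ∈ N2 := Subgroup.subset_closure ⟨i, rfl⟩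

theorem N2_le_SP : N2 ≤ SP := by
  unfold N2
  rw [Subgroup.closure_le]
  rintro _ ⟨i, rfl⟩
  exact SP.mul_mem (sg_mem_SP 0) (sg_mem_SP ⟨i.val + 1, Nat.succ_lt_succ i.isLt⟩)

theorem conj_mem_N2 : ∀ n ∈ N2, sg 0 * n * sg 0 ∈ N2 := by
  intro n hn
  induction hn using Subgroup.closure_induction with
  | mem n hn =>
    obtain ⟨i, rfl⟩ := hn
    have : sg 0 * nG i.val * sg 0 = (nG i.val)⁻¹ := by
      unfold nG
      rw [_root_.mul_inv_rev, sg_inv_self (x := 0) (by norm_num),
        sg_inv_self (x := i.val + 1) (by have := i.isLt; omega), ← mul_assoc,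
        sg_sq (x := 0) (by norm_num), one_mul]
    rw [this]
    exact N2.inv_mem (nG_mem_N2 i)
  | one =>
    rw [mul_one, sg_sq (x := 0) (by norm_num)]
    exact N2.one_mem
  | mul a b _ _ ha hb =>
    have : sg 0 * (a * b) * sg 0 = (sg 0 * a * sg 0) * (sg 0 * b * sg 0) := by
      have h := sg_sq (x := 0) (by norm_num)
      calc sg 0 * (a * b) * sg 0 = sg 0 * a * 1 * b * sg 0 := by group
        _ = sg 0 * a * (sg 0 * sg 0) * b * sg 0 := by rw [h]
        _ = _ := by group
    rw [this]
    exact N2.mul_mem ha hb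
  | inv a _ ha =>
    have : sg 0 * a⁻¹ * sg 0 = (sg 0 * a * sg 0)⁻¹ := by
      rw [_root_.mul_inv_rev, _root_.mul_inv_rev, sg_inv_self (x := 0) (by norm_num), mul_assoc]
    rw [this]
    exact N2.inv_mem ha

/-- the union of the subgroup and its coset by `a`. -/
noncomputable def KS : Subgroup (Equiv.Perm (Fin nP)) where
  carrier := {g | g ∈ N2 ∨ sg 0 * g ∈ N2}
  one_mem' := Or.inl N2.one_mem
  mul_mem' := by
    rintro a b (ha | ha) (hb | hb)
    · exact Or.inl (N2.mul_mem ha hb)
    · right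
      have : sg 0 * (a * b) = (sg 0 * a * sg 0) * (sg 0 * b) := by
        have h := sg_sq (x := 0) (by norm_num)
        calc sg 0 * (a * b) = sg 0 * a * 1 * b := by group
          _ = sg 0 * a * (sg 0 * sg 0) * b := by rw [h]
          _ = _ := by group
      rw [this]
      exact N2.mul_mem (conj_mem_N2 a ha) hb
    · right
      have : sg 0 * (a * b) = (sg 0 * a) * b := by group
      rw [this]
      exact N2.mul_mem ha hb
    · left
      have : a * b = (sg 0 * (sg 0 * a) * sg 0) * (sg 0 * b) := by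
        have h := sg_sq (x := 0) (by norm_num)
        calc a * b = 1 * a * 1 * b := by group
          _ = (sg 0 * sg 0) * a * (sg 0 * sg 0) * b := by rw [h]
          _ = _ := by group
      rw [this]
      exact N2.mul_mem (conj_mem_N2 _ ha) hb
  inv_mem' := by
    rintro a (ha | ha)
    · exact Or.inl (N2.inv_mem ha)
    · right
      have : sg 0 * a⁻¹ = sg 0 * (sg 0 * a)⁻¹ * sg 0 := by
        rw [_root_.mul_inv_rev, sg_inv_self (x := 0) (by norm_num), mul_assoc, mul_assoc, sg_sq (x := 0) (by norm_num),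
          mul_one]
      rw [this]
      exact conj_mem_N2 _ (N2.inv_mem ha)

theorem SP_le_KS : SP ≤ KS := by
  unfold SP
  rw [Subgroup.closure_le]
  rintro _ ⟨⟨i, hi⟩, rfl⟩
  change sg i ∈ N2 ∨ sg 0 * sg i ∈ N2
  right
  rcases Nat.eq_zero_or_pos i with h0 | hpos
  · rw [h0, sg_sq (x := 0) (by norm_num)]
    exact N2.one_mem
  · have : i = (⟨i - 1, by omega⟩ : Fin 5).val + 1 := by
      change i = i - 1 + 1
      omega
    rw [this]
    exact nG_mem_N2 _

/-- the subgroup has index at most two. -/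
theorem card_SP_le : Nat.card ↥SP ≤ 2 * Nat.card ↥N2 := by
  have h1 : (SP : Set (Equiv.Perm (Fin nP))) ⊆
      (N2 : Set (Equiv.Perm (Fin nP))) ∪ (fun g => sg 0 * g) '' (N2 : Set (Equiv.Perm (Fin nP))) := by
    intro g hg
    rcases SP_le_KS hg with h | h
    · exact Or.inl h
    · right
      refine ⟨sg 0 * g, h, ?_⟩
      change sg 0 * (sg 0 * g) = g
      rw [← mul_assoc, sg_sq (x := 0) (by norm_num), one_mul]
  have h2 := Set.ncard_le_ncard h1 (Set.toFinite _)
  have h3 := Set.ncard_union_le (N2 : Set (Equiv.Perm (Fin nP)))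
    ((fun g => sg 0 * g) '' (N2 : Set (Equiv.Perm (Fin nP))))
  have h4 : ((fun g => sg 0 * g) '' (N2 : Set (Equiv.Perm (Fin nP)))).ncard =
      (N2 : Set (Equiv.Perm (Fin nP))).ncard :=
    Set.ncard_image_of_injective _ (mul_right_injective (sg 0))
  have h5 : (SP : Set (Equiv.Perm (Fin nP))).ncard = Nat.card ↥SP := rfl
  have h6 : (N2 : Set (Equiv.Perm (Fin nP))).ncard = Nat.card ↥N2 := rfl
  omega

/-- every element of the subgroup is related to a class of matrices. -/
theorem exists_rel : ∀ h ∈ N2, ∃ m : PSL7, (h, m) ∈ RON := by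
  intro h hh
  induction hh using Subgroup.closure_induction with
  | mem n hn =>
    obtain ⟨i, rfl⟩ := hn
    exact ⟨_, gen_mem_RON i⟩
  | one => exact ⟨1, RON.one_mem⟩
  | mul a b _ _ ha hb =>
    obtain ⟨m, hm⟩ := ha
    obtain ⟨m', hm'⟩ := hb
    exact ⟨m * m', RON.mul_mem hm hm'⟩
  | inv a _ ha =>
    obtain ⟨m, hm⟩ := ha
    exact ⟨m⁻¹, RON.inv_mem hm⟩

theorem sg0_not_mem_N2 : sg 0 ∉ N2 := by
  intro h
  obtain ⟨m, hm⟩ := exists_rel _ h
  exact sg0_not_rel m hm

end Cfsg.Agent.Helper9.ON
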