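import Mathlib
import Cfsg.Prelude
import Cfsg.Agent.Helper9.ON.Graph

set_option autoImplicit false

/-!
In the presented O'Nan group, the subgroup generated by `a, …, f` has a normal subgroup of index
two isomorphic to the projective special linear group of degree three over the field with seven
elements (given that the presented group is simple of its order).
-/

namespace Cfsg.Agent.Helper9.ON

open Cfsg Cfsg.Spor Cfsg.Agent.Helper5.TC Cfsg.Agent.Helper5.TCI Cfsg.Agent.Helper5.ONTC
open Cfsg.Agent.S1692 MulAction Cfsg.Agent.Helper9.J3 Matrix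

/-- a subgroup of a product whose first projection is bijective and whose second projection is
onto a generating set is the graph of an isomorphism, when the second group is not smaller. -/
theorem iso_of_graph3 {H T : Type*} [Group H] [Group T] [Finite H] (R : Subgroup (H × T))
    (h1 : ∀ t : T, ((1 : H), t) ∈ R → t = 1) (h3 : ∀ h : H, ∃ t : T, (h, t) ∈ R)
    (ST : Set T) (hST : Subgroup.closure ST = ⊤) (h4 : ∀ t ∈ ST, ∃ s : H, (s, t) ∈ R)
    (hcard : Nat.card H ≤ Nat.card T) : Nonempty (H ≃* T) := by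
  let pH : R →* H := (MonoidHom.fst H T).comp R.subtype
  let pT : R →* T := (MonoidHom.snd H T).comp R.subtype
  have hHinj : Function.Injective pH := by
    rw [injective_iff_map_eq_one]
    rintro ⟨⟨h, t⟩, hr⟩ he
    change h = 1 at he
    subst he
    have := h1 t hr
    subst this
    rfl
  have hHsurj : Function.Surjective pH := by
    intro h
    obtain ⟨t, ht⟩ := h3 h
    exact ⟨⟨(h, t), ht⟩, rfl⟩
  have hTsurj : Function.Surjective pT := by
    rw [← MonoidHom.range_eq_top, eq_top_iff, ← hST, Subgroup.closure_le]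
    intro t ht
    obtain ⟨s, hs⟩ := h4 t ht
    exact ⟨⟨(s, t), hs⟩, rfl⟩
  let eH : ↥R ≃* H := MulEquiv.ofBijective pH ⟨hHinj, hHsurj⟩
  have : Finite ↥R := Finite.of_equiv H eH.symm.toEquiv
  have hc : Nat.card ↥R ≤ Nat.card T := by
    rw [Nat.card_congr eH.toEquiv]
    exact hcard
  have hTbij : Function.Bijective pT := hTsurj.bijective_of_nat_card_le hc
  exact ⟨eH.symm.trans (MulEquiv.ofBijective pT hTbij)⟩

/-- the relators of the presented group. -/
abbrev relsON : Set (FreeGroup ON.Gen) := coxRelators ON.edges ∪ {r | r ∈ ON.extra}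

/-- the subgroup of the presented group generated by `a, …, f`. -/
abbrev HS : Subgroup ON :=
  (Subgroup.closure ({ON.a, ON.b, ON.c, ON.d, ON.e, ON.f} : Set (FreeGroup ON.Gen))).map
    (PresentedGroup.mk relsON)

theorem range_sg : (Set.range fun i : Fin 6 => sg i.val) = {sg 0, sg 1, sg 2, sg 3, sg 4, sg 5} := by
  ext g
  simp only [Set.mem_range, Set.mem_insert_iff, Set.mem_singleton_iff]
  constructor
  · rintro ⟨i, rfl⟩
    fin_cases i <;> simp
  · rintro (rfl | rfl | rfl | rfl | rfl | rfl)
    · exact ⟨⟨0, by norm_num⟩, rfl⟩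
    · exact ⟨⟨1, by norm_num⟩, rfl⟩
    · exact ⟨⟨2, by norm_num⟩, rfl⟩
    · exact ⟨⟨3, by norm_num⟩, rfl⟩
    · exact ⟨⟨4, by norm_num⟩, rfl⟩
    · exact ⟨⟨5, by norm_num⟩, rfl⟩

theorem map_HS : HS.map phi = SP := by
  unfold HS SP
  rw [Subgroup.map_map, MonoidHom.map_closure, range_sg]
  congr 1
  simp only [Set.image_insert_eq, Set.image_singleton, MonoidHom.comp_apply, phi_mk,
    FreeGroup.lift_apply_of]
  rfl

/-- the subgroup of the presented group is isomorphic to the subgroup of the group on 122760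
points. -/
noncomputable def eHS (hs : IsSimpleGroup ON) : ↥HS ≃* ↥SP :=
  (HS.equivMapOfInjective phi (phi_injective hs)).trans (MulEquiv.subgroupCongr map_HS)

theorem card_SP (h : IsON ON) (hidx : HS.index = 122760) : Nat.card ↥SP = 3753792 := by
  rw [← Nat.card_congr (eHS h.1).toEquiv]
  have h1 := Subgroup.index_mul_card HS
  rw [hidx, h.2] at h1
  omega

theorem card_N2 (h : IsON ON) (hidx : HS.index = 122760) : Nat.card ↥N2 = 1876896 := by
  have h1 := card_SP_le
  rw [card_SP h hidx] at h1
  have h2 : Nat.card ↥N2 ∣ Nat.card ↥SP := Subgroup.card_dvd_of_le N2_le_SP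
  rw [card_SP h hidx] at h2
  have h3 : Nat.card ↥N2 ≠ 3753792 := by
    intro h3
    have : N2 = SP := by
      apply Subgroup.eq_of_le_of_card_ge N2_le_SP
      rw [card_SP h hidx, h3]
    apply sg0_not_mem_N2
    rw [this]
    exact sg_mem_SP 0
  obtain ⟨k, hk⟩ := h2
  have hk2 : k ≤ 2 := by
    by_contra hcon
    have : 3 ≤ k := by omega
    nlinarith
  interval_cases k <;> omega

theorem closure_gSL :
    Subgroup.closure (Set.range fun i : Fin 5 => ((gSL i.val : SL7) : PSL7)) = ⊤ := by
  have h := C5_eq_top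
  unfold C5 at h
  have h2 := congrArg (Subgroup.map (QuotientGroup.mk' (Subgroup.center SL7))) h
  rw [MonoidHom.map_closure, Subgroup.map_top_of_surjective _ (QuotientGroup.mk'_surjective _),
    ← Set.range_comp] at h2
  exact h2

/-- the subgroup is isomorphic to the projective special linear group. -/
theorem N2_iso (h : IsON ON) (hidx : HS.index = 122760) : Nonempty (↥N2 ≃* PSL7) := by
  let R' : Subgroup (↥N2 × PSL7) := RON.comap (MonoidHom.prodMap N2.subtype (MonoidHom.id PSL7))
  apply iso_of_graph3 R' ?_ ?_ (Set.range fun i : Fin 5 => ((gSL i.val : SL7) : PSL7))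
    closure_gSL ?_ ?_
  · intro t ht
    exact RON_fst t ht
  · intro g
    obtain ⟨m, hm⟩ := exists_rel g.1 g.2
    exact ⟨m, hm⟩
  · rintro _ ⟨i, rfl⟩
    exact ⟨⟨nG i.val, nG_mem_N2 i⟩, gen_mem_RON i⟩
  · rw [card_N2 h hidx, card_PSL7]

/-- the subgroup has index two. -/
theorem index_N2 (h : IsON ON) (hidx : HS.index = 122760) : (N2.subgroupOf SP).index = 2 := by
  have h1 := Subgroup.index_mul_card (N2.subgroupOf SP)
  have h2 : Nat.card ↥(N2.subgroupOf SP) = 1876896 := by
    rw [Nat.card_congr (Subgroup.subgroupOfEquivOfLe N2_le_SP).toEquiv]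
    exact card_N2 h hidx
  rw [h2, card_SP h hidx] at h1
  have h3 : (N2.subgroupOf SP).index * 1876896 = 2 * 1876896 := by rw [h1]
  exact Nat.eq_of_mul_eq_mul_right (by norm_num) h3

theorem sub_main (h : IsON ON) (hidx : HS.index = 122760) : ∃ N : Subgroup ↥HS,
    N.Normal ∧ N.index = 2 ∧
      Nonempty (N ≃* Matrix.ProjectiveSpecialLinearGroup (Fin 3) (ZMod 7)) := by
  have hnorm : (N2.subgroupOf SP).Normal := Subgroup.normal_of_index_eq_two (index_N2 h hidx)
  refine ⟨(N2.subgroupOf SP).comap (eHS h.1).toMonoidHom, hnorm.comap _, ?_, ?_⟩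
  · have := Subgroup.index_comap_of_surjective (N2.subgroupOf SP)
      (f := (eHS h.1).toMonoidHom) (eHS h.1).surjective
    rw [this]
    exact index_N2 h hidx
  · obtain ⟨e⟩ := N2_iso h hidx
    have hmap : ((N2.subgroupOf SP).comap (eHS h.1).toMonoidHom).map (eHS h.1).toMonoidHom =
        N2.subgroupOf SP := Subgroup.map_comap_eq_self_of_surjective (eHS h.1).surjective _
    exact ⟨(((eHS h.1).subgroupMap _).trans (MulEquiv.subgroupCongr hmap)).trans
      ((Subgroup.subgroupOfEquivOfLe N2_le_SP).trans e)⟩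

end Cfsg.Agent.Helper9.ON
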